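import Groth.Agent.QuotDef.Comp
import Groth.Agent.QuotDef.FlatBase

/-!
# Restriction of stalks of `E_T`
-/

set_option autoImplicit false
set_option linter.unusedSectionVars false
universe u
open CategoryTheory Limits AlgebraicGeometry TopologicalSpace Opposite IsLocalRing

set_option backward.isDefEq.respectTransparency false

namespace Groth.Agent.QuotDef

open ArtFun Groth.Agent.QCohLib

section Unit

variable {Z Y X : Scheme.{u}} (f : Z ⟶ Y) (g : Y ⟶ X) (M : X.Modules)

/-- Pulled back sections. -/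
noncomputable abbrev unitSect (W : X.Opens) (s : Γ(M, W)) : Γ((Scheme.Modules.pullback g).obj M, g ⁻¹ᵁ W) :=
  ((Scheme.Modules.pullbackPushforwardAdjunction g).unit.app M).app W s

theorem pullbackComp_unit (W : X.Opens) (s : Γ(M, W)) :
    ((Scheme.Modules.pullbackComp f g).hom.app M).app ((f ≫ g) ⁻¹ᵁ W)
        (unitSect f ((Scheme.Modules.pullback g).obj M) (g ⁻¹ᵁ W) (unitSect g M W s)) =
      unitSect (f ≫ g) M W s := by
  have h := CategoryTheory.unit_conjugateEquiv
    ((Scheme.Modules.pullbackPushforwardAdjunction g).comp (Scheme.Modules.pullbackPushforwardAdjunction f))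
    (Scheme.Modules.pullbackPushforwardAdjunction (f ≫ g)) (Scheme.Modules.pullbackComp f g).inv M
  rw [Scheme.Modules.conjugateEquiv_pullbackComp_inv, Adjunction.comp_unit_app] at h
  have h' := congrArg (fun ψ => Scheme.Modules.Hom.app ψ W s) h
  have h2 : unitSect f ((Scheme.Modules.pullback g).obj M) (g ⁻¹ᵁ W) (unitSect g M W s) =
      ((Scheme.Modules.pullbackComp f g).inv.app M).app ((f ≫ g) ⁻¹ᵁ W) (unitSect (f ≫ g) M W s) := h'
  rw [h2]
  exact congrArg (fun ψ => Scheme.Modules.Hom.app ψ ((f ≫ g) ⁻¹ᵁ W) (unitSect (f ≫ g) M W s))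
    ((Scheme.Modules.pullbackComp f g).inv_hom_id_app M)

theorem pullbackCongr_germ {f' : Z ⟶ Y} {f : Z ⟶ Y} (h : f = f') (N : Y.Modules) (W : Y.Opens) (z : Z)
    (hz : z ∈ f ⁻¹ᵁ W) (hz' : z ∈ f' ⁻¹ᵁ W) (s : Γ(N, W)) :
    stalkHom ((Scheme.Modules.pullbackCongr h).hom.app N) z
        (((Scheme.Modules.pullback f).obj N).presheaf.germ (f ⁻¹ᵁ W) z hz (unitSect f N W s)) =
      ((Scheme.Modules.pullback f').obj N).presheaf.germ (f' ⁻¹ᵁ W) z hz' (unitSect f' N W s) := by
  subst h
  simp only [Scheme.Modules.pullbackCongr, eqToIso_refl, Iso.refl_hom, NatTrans.id_app]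
  exact stalkHom_id z _

end Unit

section Rho

variable {X S : Scheme.{u}} (f : X ⟶ S) (E : X.Modules) {T T' T'' : Over S}

/-- Restriction on structure sheaves. -/
noncomputable def pt (g : T' ⟶ T) (z : PicF.XT f T') (y : PicF.XT f T) (hy : PicF.XTmap f g z = y) :
    (PicF.XT f T).presheaf.stalk y →+* (PicF.XT f T').presheaf.stalk z := by
  subst hy
  exact ((PicF.XTmap f g).stalkMap z).hom

/-- Restriction on stalks of `E_T`. -/
noncomputable def rho (g : T' ⟶ T) (z : PicF.XT f T') (y : PicF.XT f T) (hy : PicF.XTmap f g z = y) :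
    (FGA.ET f E T).presheaf.stalk y →+ (FGA.ET f E T').presheaf.stalk z := by
  subst hy
  exact (stalkLinearMap (FGA.ETiso f E g).hom z).toAddMonoidHom.comp (red (PicF.XTmap f g) (FGA.ET f E T) z)

theorem rho_apply (g : T' ⟶ T) (z : PicF.XT f T') (m : (FGA.ET f E T).presheaf.stalk (PicF.XTmap f g z)) :
    rho f E g z _ rfl m = stalkHom (FGA.ETiso f E g).hom z (red (PicF.XTmap f g) (FGA.ET f E T) z m) := rfl

theorem rho_smul (g : T' ⟶ T) (z : PicF.XT f T') (y : PicF.XT f T) (hy : PicF.XTmap f g z = y)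
    (r : (PicF.XT f T).presheaf.stalk y) (m : (FGA.ET f E T).presheaf.stalk y) :
    rho f E g z y hy (r • m) = pt f g z y hy r • rho f E g z y hy m := by
  subst hy
  change stalkHom _ z (red _ _ z (r • m)) = _
  rw [red_smul]
  exact (stalkLinearMap (FGA.ETiso f E g).hom z).map_smul _ _

theorem pt_comp (g : T' ⟶ T) (g' : T'' ⟶ T') (z : PicF.XT f T'') (w : PicF.XT f T') (y : PicF.XT f T)
    (hw : PicF.XTmap f g' z = w) (hy : PicF.XTmap f g w = y) (hy' : PicF.XTmap f (g' ≫ g) z = y)
    (r : (PicF.XT f T).presheaf.stalk y) :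
    pt f g' z w hw (pt f g w y hy r) = pt f (g' ≫ g) z y hy' r := by
  subst hw hy
  unfold pt
  revert hy'
  generalize hk : PicF.XTmap f (g' ≫ g) = k
  intro hy'
  have he := (XTmap_comp f g g').trans hk
  subst he
  exact (congr($(Scheme.Hom.stalkMap_comp (PicF.XTmap f g') (PicF.XTmap f g) z) r)).symm

/-- Germs of sections pulled back from `X`. -/
noncomputable def gen (T : Over S) (W : X.Opens) (y : PicF.XT f T) (hy : pullback.fst f T.hom y ∈ W)
    (s : Γ(E, W)) : (FGA.ET f E T).presheaf.stalk y :=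
  (FGA.ET f E T).presheaf.germ (pullback.fst f T.hom ⁻¹ᵁ W) y hy (unitSect (pullback.fst f T.hom) E W s)

theorem span_gen (T : Over S) (y : PicF.XT f T) (m : (FGA.ET f E T).presheaf.stalk y) :
    m ∈ Submodule.span ((PicF.XT f T).presheaf.stalk y)
      {n : (FGA.ET f E T).presheaf.stalk y | ∃ W hy s, gen f E T W y hy s = n} := by
  have h : m ∈ Submodule.span ((PicF.XT f T).presheaf.stalk y)
      (ConormalSection.pullGerms (pullback.fst f T.hom) E y) := by
    rw [ConormalSection.span_pullGerms]; trivial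
  exact h

theorem fst_eq (g : T' ⟶ T) (z : PicF.XT f T') :
    pullback.fst f T'.hom z = pullback.fst f T.hom (PicF.XTmap f g z) := by
  rw [← Scheme.Hom.comp_apply, FGA.XTmap_fst]

theorem rho_gen (g : T' ⟶ T) (z : PicF.XT f T') (y : PicF.XT f T) (hy : PicF.XTmap f g z = y) (W : X.Opens)
    (hW : pullback.fst f T.hom y ∈ W) (s : Γ(E, W)) :
    rho f E g z y hy (gen f E T W y hW s) = gen f E T' W z (by rwa [fst_eq f g, hy]) s := by
  subst hy
  rw [rho_apply, gen, red_germ]
  simp only [FGA.ETiso, Iso.trans_hom, Iso.app_hom]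
  rw [stalkHom_comp]
  refine (congrArg (stalkHom ((Scheme.Modules.pullbackCongr (FGA.XTmap_fst f g)).hom.app E) z)
    ((stalkHom_germ _ _ z _ _).trans ?_)).trans
    (pullbackCongr_germ (FGA.XTmap_fst f g) E W z hW
      (show pullback.fst f T'.hom z ∈ W by rwa [fst_eq f g]) s)
  exact congrArg (((Scheme.Modules.pullback (PicF.XTmap f g ≫ pullback.fst f T.hom)).obj E).presheaf.germ
    ((PicF.XTmap f g ≫ pullback.fst f T.hom) ⁻¹ᵁ W) z hW)
    (pullbackComp_unit (PicF.XTmap f g) (pullback.fst f T.hom) E W s)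

/-- Restriction is functorial. -/
theorem rho_comp (g : T' ⟶ T) (g' : T'' ⟶ T') (z : PicF.XT f T'') (w : PicF.XT f T') (y : PicF.XT f T)
    (hw : PicF.XTmap f g' z = w) (hy : PicF.XTmap f g w = y) (hy' : PicF.XTmap f (g' ≫ g) z = y)
    (m : (FGA.ET f E T).presheaf.stalk y) :
    rho f E g' z w hw (rho f E g w y hy m) = rho f E (g' ≫ g) z y hy' m := by
  have h := span_gen f E T y m
  induction h using Submodule.span_induction with
  | mem n hn =>
    obtain ⟨W, hW, s, rfl⟩ := hn
    rw [rho_gen, rho_gen, rho_gen]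
  | zero => simp only [map_zero]
  | add a b _ _ ha hb => simp only [map_add, ha, hb]
  | smul r a _ ha => rw [rho_smul, rho_smul, rho_smul, pt_comp f g g' z w y hw hy hy', ha]

end Rho

section Art

variable {k : Type u} [Field k] {X : Scheme.{u}} (x : X ⟶ Spec (CommRingCat.of k)) (E : X.Modules)
variable {A B : Art k k}

theorem pt_sA (g : A ⟶ B) (z : Art.XA x B) (y : Art.XA x A) (hy : Art.XAmap x g z = y) (a : A) :
    pt x (ov g) z y hy (sA x A y a) = sA x B z (g a) := by
  subst hy
  exact stalkMap_sA x g z a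

theorem rho_smulA (g : A ⟶ B) (z : Art.XA x B) (y : Art.XA x A) (hy : Art.XAmap x g z = y) (a : A)
    (m : (FGA.ET x E (Over.mk (Art.specOver A))).presheaf.stalk y) :
    rho x E (ov g) z y hy (sA x A y a • m) = sA x B z (g a) • rho x E (ov g) z y hy m := by
  rw [rho_smul, pt_sA]

theorem rho_comp_ov {C : Art k k} (g : A ⟶ B) (h : B ⟶ C) (z : Art.XA x C) (w : Art.XA x B) (y : Art.XA x A)
    (hw : Art.XAmap x h z = w) (hy : Art.XAmap x g w = y) (hy' : Art.XAmap x (g ≫ h) z = y)
    (m : (FGA.ET x E (Over.mk (Art.specOver A))).presheaf.stalk y) :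
    rho x E (ov h) z w hw (rho x E (ov g) w y hy m) = rho x E (ov (g ≫ h)) z y hy' m := by
  have e : ov (g ≫ h) = ov h ≫ ov g := Over.OverMorphism.ext (Art.specMap_comp g h)
  have aux : ∀ v (hv : PicF.XTmap x v z = y), v = ov (g ≫ h) →
      rho x E (ov h) z w hw (rho x E (ov g) w y hy m) = rho x E v z y hv m →
      rho x E (ov h) z w hw (rho x E (ov g) w y hy m) = rho x E (ov (g ≫ h)) z y hy' m := by
    rintro v hv rfl hm; exact hm
  have hv : PicF.XTmap x (ov h ≫ ov g) z = y := by rw [← e]; exact hy'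
  exact aux _ hv e.symm (rho_comp x E (ov g) (ov h) z w y hw hy hv m)

theorem rho_surjective (g : A ⟶ B) (hg : Function.Surjective g) (z : Art.XA x B) :
    Function.Surjective (rho x E (ov g) z (Art.XAmap x g z) rfl) := fun n => by
  obtain ⟨m, hm⟩ := red_surjective (Art.XAmap x g) (FGA.ET x E (Over.mk (Art.specOver A))) z
    (stalkMap_surjective x g hg z) (stalkHom (FGA.ETiso x E (ov g)).inv z n)
  refine ⟨m, ?_⟩
  change stalkHom (FGA.ETiso x E (ov g)).hom z (red (Art.XAmap x g) _ z m) = n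
  rw [hm, ← stalkHom_comp, Iso.inv_hom_id, stalkHom_id]

theorem rho_eq_zero_iff (g : A ⟶ B) (hg : Function.Surjective g) (z : Art.XA x B)
    (m : (FGA.ET x E (Over.mk (Art.specOver A))).presheaf.stalk (Art.XAmap x g z)) :
    letI := Module.compHom ((FGA.ET x E (Over.mk (Art.specOver A))).presheaf.stalk (Art.XAmap x g z))
      (sA x A (Art.XAmap x g z))
    rho x E (ov g) z _ rfl m = 0 ↔ m ∈ RingHom.ker g.toAlgHom.toRingHom •
      (⊤ : Submodule A ((FGA.ET x E (Over.mk (Art.specOver A))).presheaf.stalk (Art.XAmap x g z))) := by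
  refine Iff.trans ?_ (redA_eq_zero_iff x g hg _ z m)
  change stalkHom (FGA.ETiso x E (ov g)).hom z (red (Art.XAmap x g) _ z m) = 0 ↔ _
  exact map_eq_zero_iff _ ((isIso_iff_stalk_bijective (FGA.ETiso x E (ov g)).hom).1 inferInstance z).1

/-- Restriction respects pulled back submodules. -/
theorem rho_mem {K : Subobject (FGA.ET x E (Over.mk (Art.specOver A)))}
    {L : Subobject (FGA.ET x E (Over.mk (Art.specOver B)))} (g : A ⟶ B)
    (hL : FGA.quotPull x E (ov g) K = L) (z : Art.XA x B) (y : Art.XA x A) (hy : Art.XAmap x g z = y)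
    (a : (Subobject.underlying.obj K).presheaf.stalk y) :
    stalkHom (cokernel.π L.arrow) z (rho x E (ov g) z y hy (stalkHom K.arrow y a)) = 0 := by
  subst hy hL
  change stalkHom _ z (stalkHom (FGA.ETiso x E (ov g)).hom z (red (Art.XAmap x g) _ z (stalkHom K.arrow _ a))) = 0
  rw [← red_natural]
  refine (stalkHom_comp _ _ _ _).symm.trans ?_
  refine (stalkHom_comp _ _ _ _).symm.trans ?_
  refine (congrArg (fun φ => stalkHom φ z (red (Art.XAmap x g) (Subobject.underlying.obj K) z a)) ?_).trans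
    (stalkHom_zero z _)
  change ((Scheme.Modules.pullback (PicF.XTmap x (ov g))).map K.arrow) ≫ (FGA.ETiso x E (ov g)).hom ≫
    cokernel.π (FGA.quotPull x E (ov g) K).arrow = 0
  rw [← Category.assoc, ← imageSubobject_arrow_comp ((Scheme.Modules.pullback (PicF.XTmap x (ov g))).map K.arrow ≫
    (FGA.ETiso x E (ov g)).hom), Category.assoc]
  exact (congrArg (factorThruImageSubobject _ ≫ ·) (cokernel.condition _)).trans comp_zero

end Art

end Groth.Agent.QuotDef
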