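import Groth.Agent.QuotDef.Smooth
import Groth.Agent.HilbLoc.Rep.LocalDim
import Groth.Agent.HilbLoc.Rep.IsoClosed
import Groth.Agent.HilbLoc.Rep.Point
import Groth.Agent.ArtFunLib.Split
import Groth.Agent.ArtFunLib.Functor

/-!
# The Quot scheme at a rational point
-/

set_option autoImplicit false
set_option linter.unusedSectionVars false
set_option maxHeartbeats 1000000
universe u
open CategoryTheory Limits AlgebraicGeometry IsLocalRing

set_option backward.isDefEq.respectTransparency false

namespace Groth.Agent.QuotDef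

open ArtFun Groth.Agent Groth.Agent.HilbLoc.Rep

section General

variable {X S : Scheme.{u}} (f : X ⟶ S) (E : X.Modules) {T T' : Over S}

theorem isPullback_XTmap (g : T' ⟶ T) :
    IsPullback (PicF.XTmap f g) (PicF.XTproj f T') (PicF.XTproj f T) g.left := by
  have hsnd : PicF.XTmap f g ≫ PicF.XTproj f T = PicF.XTproj f T' ≫ g.left := pullback.lift_snd _ _ _
  refine IsPullback.of_right ?_ hsnd (IsPullback.of_hasPullback f T.hom)
  rw [FGA.XTmap_fst, Over.w g]
  exact IsPullback.of_hasPullback f T'.hom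

/-- Pulling back a family of quotients gives a family of quotients. -/
theorem quotPull_mem (g : T' ⟶ T) (K : FGA.QuotSet f E T) :
    Coh.IsCoh (cokernel (FGA.quotPull f E g K.1).arrow) ∧
      FlatMod.IsFlatOver (PicF.XTproj f T') (cokernel (FGA.quotPull f E g K.1).arrow) := by
  obtain ⟨-, ⟨v⟩⟩ := iso_of_imageSubobject_eq ((Scheme.Modules.pullback (PicF.XTmap f g)).map K.1.arrow)
    (FGA.ETiso f E g) _ rfl
  obtain ⟨c⟩ := preservesCokernel (Scheme.Modules.pullbackPushforwardAdjunction (PicF.XTmap f g)) K.1.arrow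
  haveI := K.2.1.1
  exact ⟨QCohLib.isCoh_of_iso (c ≪≫ v) (QCohLib.isCoh_pullback _ _ K.2.1), fun y =>
    (Groth.FlatDescent.isFlatOverAt_congr (c ≪≫ v) _ y).1
      (Groth.FlatDescent.SheafBC.isFlatOverAt_baseChange (PicF.XTproj f T) (PicF.XTproj f T') (PicF.XTmap f g)
        g.left (isPullback_XTmap f g) _ y (K.2.2 _))⟩

/-- Splitting transports along an isomorphism of bases. -/
theorem splitsAt_quotPull (v : T' ⟶ T) (w : T ⟶ T') (hvw : w ≫ v = 𝟙 T) (hwv : v ≫ w = 𝟙 T')
    (K : FGA.QuotSet f E T) [HasExt.{u} (PicF.XT f T).Modules]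
    (h : Subsingleton (Abelian.Ext.{u} (Subobject.underlying.obj K.1) (cokernel K.1.arrow) 1)) :
    SplitsAt (FGA.quotPull f E v K.1) := by
  have hid : ∀ U : Over S, PicF.XTmap f (𝟙 U) = 𝟙 _ := fun U => by
    refine pullback.hom_ext ?_ ?_
    · rw [FGA.XTmap_fst, Category.id_comp]
    · simp only [PicF.XTmap, pullback.map, pullback.lift_snd, Over.id_left, Category.comp_id, Category.id_comp]
  let i : PicF.XT f T ≅ PicF.XT f T' :=
    ⟨PicF.XTmap f w, PicF.XTmap f v, by rw [XTmap_comp, hvw, hid], by rw [XTmap_comp, hwv, hid]⟩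
  haveI : (Scheme.Modules.pullback (PicF.XTmap f w)).IsEquivalence := (pullEquiv i).isEquivalence_functor
  haveI : (Scheme.Modules.pullback (PicF.XTmap f w)).Additive := Functor.additive_of_preserves_binary_products _
  let L := FGA.quotPull f E v K.1
  have hL : FGA.quotPull f E w L = K.1 := by rw [quotPull_comp, hvw, quotPull_id]
  obtain ⟨⟨u₁⟩, ⟨u₂⟩⟩ := cokernel_iso_of_iso ((Scheme.Modules.pullback (PicF.XTmap f w)).map L.arrow) (FGA.ETiso f E w)
  obtain ⟨c⟩ := preservesCokernel (Scheme.Modules.pullbackPushforwardAdjunction (PicF.XTmap f w)) L.arrow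
  have hL' : Subobject.mk ((Scheme.Modules.pullback (PicF.XTmap f w)).map L.arrow ≫ (FGA.ETiso f E w).hom) = K.1 :=
    (imageSubobject_mono _).symm.trans hL
  intro S hS hS₁ hS₃
  obtain ⟨e₁⟩ := hS₁
  obtain ⟨e₃⟩ := hS₃
  let eA : Subobject.underlying.obj (Subobject.mk ((Scheme.Modules.pullback (PicF.XTmap f w)).map L.arrow ≫
      (FGA.ETiso f E w).hom)) ≅ Subobject.underlying.obj K.1 := Subobject.isoOfEq _ _ hL'
  let eB : cokernel (Subobject.mk ((Scheme.Modules.pullback (PicF.XTmap f w)).map L.arrow ≫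
      (FGA.ETiso f E w).hom)).arrow ≅ cokernel K.1.arrow :=
    cokernel.mapIso _ _ eA (Iso.refl _) (by simp [eA])
  exact exists_retraction_of_equivalence (Scheme.Modules.pullback (PicF.XTmap f w)) S.f S.g S.zero hS
    ((Scheme.Modules.pullback (PicF.XTmap f w)).mapIso e₁ ≪≫ c ≪≫ u₂ ≪≫ eB)
    ((Scheme.Modules.pullback (PicF.XTmap f w)).mapIso e₃ ≪≫ u₁ ≪≫ eA) h

end General

section Regular

variable {k : Type u} [Field k] {R : Type u} [CommRing R] [IsLocalRing R] [IsNoetherianRing R] [Algebra k R]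

/-- A local ring whose points lift along every surjection is regular. -/
theorem regular_of_lift (res : R →ₐ[k] k)
    (hlift : ∀ ⦃B A : Art k k⦄ (μ : B ⟶ A), Function.Surjective μ → ∀ φ : HomSet R res A,
      ∃ ψ : HomSet R res B, HomSet.map μ ψ = φ) : IsRegularLocalRing R := by
  have h0 : H0 (hR R res) := by
    refine ⟨⟨⟨res, AlgHom.id_comp res⟩⟩, ⟨fun φ φ' => Subtype.ext ?_⟩⟩
    have e : ∀ φ : HomSet R res (Art.base k k), φ.1 = res := fun φ => (AlgHom.id_comp φ.1).symm.trans φ.2
    rw [e, e]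
  have h2 : Heps (hR R res) := by
    intro B A' p' p'' hP
    exact ⟨ArtFunLib.cmp_injective fun z z' h₁ h₂ => Subtype.ext (AlgHom.ext fun r => hP.inj _ _
      (DFunLike.congr_fun (congrArg Subtype.val h₁) r) (DFunLike.congr_fun (congrArg Subtype.val h₂) r)),
      ArtFunLib.cmp_surjective fun a b hab => ArtFunLib.exists_homSet_lift hP hab⟩
  obtain ⟨T⟩ := ArtFunLib.exists_tangentStr h0 h2
  exact (regular_of_smooth (F := hR R res) { app := fun _ φ => φ, natural := fun _ _ => rfl }
    (fun _ => Function.bijective_id) hlift).1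

end Regular

section Quot

variable {k : Type u} [Field k] {X : Scheme.{u}} (x : X ⟶ Spec (CommRingCat.of k)) (E : X.Modules)

theorem specOver_base : Art.specOver (Art.base k k) = 𝟙 (Spec (CommRingCat.of k)) := by
  rw [Art.specOver, show Art.ofBase (Art.base k k) = 𝟙 (Art.base k k) from
    (Art.eq_toBase _).trans (Art.eq_toBase _).symm, Art.specMap_id]
  rfl

/-- `Spec` of the initial coefficient object, as a point. -/
noncomputable def basePt : Over.mk (Art.specOver (Art.base k k)) ⟶ onePt (k := k) :=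
  Over.homMk (Art.specOver (Art.base k k)) (Category.comp_id _)

theorem basePt_ptO : basePt (k := k) ≫ ptO (Art.base k k) = 𝟙 (Over.mk (Art.specOver (Art.base k k))) := by
  refine Over.OverMorphism.ext ?_
  change Art.specOver (Art.base k k) ≫ Spec.map (CommRingCat.ofHom (RingHom.id k)) = 𝟙 _
  rw [specOver_base]
  exact (Category.id_comp _).trans (Spec.map_id _)

theorem ptO_basePt : ptO (Art.base k k) ≫ basePt (k := k) = 𝟙 (onePt (k := k)) := by
  refine Over.OverMorphism.ext ?_
  change Spec.map (CommRingCat.ofHom (RingHom.id k)) ≫ Art.specOver (Art.base k k) = 𝟙 _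
  rw [specOver_base]
  exact (Category.comp_id _).trans (Spec.map_id _)

theorem ov_toBase (A : Art k k) : ov (Art.toBase A) = basePt ≫ ptO A := by
  refine Over.OverMorphism.ext ?_
  change Art.specMap (Art.toBase A) = Art.specOver (Art.base k k) ≫ Spec.map (CommRingCat.ofHom A.res.toRingHom)
  rw [specOver_base]
  exact (Category.id_comp _).symm

theorem ptO_ov {A B : Art k k} (g : A ⟶ B) : ptO B ≫ (ov g : specO B ⟶ specO A) = ptO A := by
  refine Over.OverMorphism.ext ?_
  change Spec.map (CommRingCat.ofHom B.res.toRingHom) ≫ Spec.map (CommRingCat.ofHom g.toAlgHom.toRingHom) = _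
  rw [← Spec.map_comp, ← CommRingCat.ofHom_comp]
  exact congrArg (fun φ => Spec.map (CommRingCat.ofHom φ)) (congrArg AlgHom.toRingHom g.res_comp)

/-- Unobstructed points of the Quot scheme are regular. -/
theorem isRegularLocalRing_quotScheme [LocallyOfFiniteType x] (hE : Coh.IsCoh E)
    (Q : Over (Spec (CommRingCat.of k))) (Ku : FGA.QuotSet x E Q) (hQ : FGA.QuotRepresentedBy x E Q Ku)
    (y : onePt (k := k) ⟶ Q) (h : SplitsAt (FGA.quotPull x E (basePt ≫ y) Ku.1)) :
    IsRegularLocalRing (Q.left.presheaf.stalk (img y)) := by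
  haveI := hQ.1
  obtain ⟨alg, res, hk, hresR⟩ := exists_augmentation y
  have hw : ∀ {A : Art k k} (φ : HomSet (Q.left.presheaf.stalk (img y)) res A),
      (Spec.map (CommRingCat.ofHom φ.1.toRingHom) ≫ Q.left.fromSpecStalk (img y)) ≫ Q.hom = (specO A).hom := by
    intro A φ
    rw [Category.assoc, ← hk, ← Spec.map_comp, ← CommRingCat.ofHom_comp]
    refine congrArg (fun f => Spec.map (CommRingCat.ofHom f)) (RingHom.ext fun c => ?_)
    exact φ.1.commutes c
  refine regular_of_lift res fun B A μ hμ φ => ?_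
  let u : Over.mk (Art.specOver A) ⟶ Q :=
    Over.homMk (Spec.map (CommRingCat.ofHom φ.1.toRingHom) ≫ Q.left.fromSpecStalk (img y)) (hw φ)
  have hpt : ptO A ≫ u = y := by
    refine Over.OverMorphism.ext ?_
    have hc : A.res.toRingHom.comp φ.1.toRingHom = resHom y :=
      RingHom.ext fun r => (DFunLike.congr_fun φ.2 r).trans (RingHom.congr_fun hresR r)
    exact (comp_specMap (Q.left.fromSpecStalk (img y)) _ _ _ hc).trans (specMap_resHom y)
  obtain ⟨K', hK'⟩ := exists_lift x E hE μ hμ _ h ⟨_, quotPull_mem x E u Ku⟩ (by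
    change FGA.quotPull x E (ov (Art.toBase A)) (FGA.quotPull x E u Ku.1) = _
    rw [quotPull_comp, ov_toBase, Category.assoc, hpt])
  haveI : IsLocallyNoetherian (Over.mk (Art.specOver A)).left :=
    inferInstanceAs (IsLocallyNoetherian (Spec (CommRingCat.of A)))
  haveI : IsLocallyNoetherian (Over.mk (Art.specOver B)).left :=
    inferInstanceAs (IsLocallyNoetherian (Spec (CommRingCat.of B)))
  obtain ⟨v, hv, -⟩ := hQ.2 (Over.mk (Art.specOver B)) K'
  have hvu : ov μ ≫ v = u := by
    refine (hQ.2 (Over.mk (Art.specOver A)) ⟨_, quotPull_mem x E u Ku⟩).unique ?_ rfl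
    rw [← quotPull_comp, hv]
    exact hK'
  have hvpt : ptO B ≫ v = y := by
    rw [← hpt, ← hvu, ← Category.assoc]
    exact (congrArg (· ≫ v) (ptO_ov μ)).symm
  have hvy : v.left.base (closedPoint B) = img y := by
    refine Eq.trans ?_ (congrArg (fun u : onePt (k := k) ⟶ Q => u.left.base (closedPoint k)) hvpt)
    exact congrArg v.left.base (Subsingleton.elim (α := PrimeSpectrum B) _ _)
  obtain ⟨ψ, hψ⟩ := exists_eq_specMap y v.left hvy
  have halg : ∀ c, ψ (algebraMap k _ c) = algebraMap k B c := fun c => by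
    have h := Over.w v
    rw [← hψ, Category.assoc, ← hk, ← Spec.map_comp, ← CommRingCat.ofHom_comp] at h
    exact RingHom.congr_fun (congrArg CommRingCat.Hom.hom (Spec.map_injective h)) c
  have hr : B.res.toRingHom.comp ψ = resHom y := by
    refine specMap_fromSpecStalk_injective y ?_
    rw [specMap_resHom, CommRingCat.ofHom_comp, Spec.map_comp, Category.assoc, hψ]
    exact congrArg CommaMorphism.left hvpt
  refine ⟨⟨{ ψ with commutes' := halg }, AlgHom.coe_ringHom_injective (hr.trans hresR.symm)⟩,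
    Subtype.ext (AlgHom.coe_ringHom_injective (specMap_fromSpecStalk_injective y ?_))⟩
  refine Eq.trans ?_ (congrArg CommaMorphism.left hvu)
  change Spec.map (CommRingCat.ofHom (μ.toAlgHom.toRingHom.comp ψ)) ≫ _ = Spec.map _ ≫ v.left
  rw [CommRingCat.ofHom_comp, Spec.map_comp, Category.assoc, hψ]

end Quot

end Groth.Agent.QuotDef
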