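import Groth.Agent.QuotDef.Rho
import Groth.Agent.QuotDef.Step
import Groth.Agent.QuotDef.Unique
import Groth.Agent.QuotDef.Point
import Groth.Agent.TangentFin.Tangent

/-!
# Families of quotients over the dual numbers
-/

set_option autoImplicit false
set_option linter.unusedSectionVars false
set_option maxHeartbeats 800000
universe u
open CategoryTheory Limits AlgebraicGeometry TopologicalSpace Opposite IsLocalRing

set_option backward.isDefEq.respectTransparency false

namespace Groth.Agent.QuotDef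

open ArtFun Groth.Agent.QCohLib

attribute [local instance] stMod

variable {k : Type u} [Field k] {X : Scheme.{u}} (x : X ⟶ Spec (CommRingCat.of k)) (E : X.Modules)

theorem stalkHom_sub {Y : Scheme.{u}} {M N : Y.Modules} (φ ψ : M ⟶ N) (y : Y) (m : M.presheaf.stalk y) :
    stalkHom (φ - ψ) y m = stalkHom φ y m - stalkHom ψ y m := by
  obtain ⟨U, hx, s, rfl⟩ := M.presheaf.exists_germ_eq m
  rw [stalkHom_germ, stalkHom_germ, stalkHom_germ, ← map_sub]
  rfl

/-- Kill predicate of a submodule on a stalk. -/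
noncomputable abbrev pq {A : Art k k} (K : Subobject (FGA.ET x E (Over.mk (Art.specOver A)))) (y : Art.XA x A)
    (e : (FGA.ET x E (Over.mk (Art.specOver A))).presheaf.stalk y) : (cokernel K.arrow).presheaf.stalk y :=
  stalkHom (cokernel.π K.arrow) y e

/-- The restriction to the closed fibre. -/
noncomputable abbrev rho0 (A : Art k k) (z : Art.XA x (Art.base k k)) :
    (FGA.ET x E (Over.mk (Art.specOver A))).presheaf.stalk (Art.XAmap x (Art.toBase A) z) →+
      (FGA.ET x E (Over.mk (Art.specOver (Art.base k k)))).presheaf.stalk z :=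
  rho x E (ov (Art.toBase A)) z (Art.XAmap x (Art.toBase A) z) rfl

theorem pq_arrow {A : Art k k} (K : Subobject (FGA.ET x E (Over.mk (Art.specOver A)))) (y : Art.XA x A) (a) :
    pq x E K y (stalkHom K.arrow y a) = 0 := by
  rw [pq, ← stalkHom_comp, cokernel.condition, stalkHom_zero]

theorem pq_sub {A : Art k k} (K : Subobject (FGA.ET x E (Over.mk (Art.specOver A)))) (y : Art.XA x A) (a b) :
    pq x E K y (a - b) = pq x E K y a - pq x E K y b :=
  map_sub (stalkHom (cokernel.π K.arrow) y).hom a b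

theorem pq_add {A : Art k k} (K : Subobject (FGA.ET x E (Over.mk (Art.specOver A)))) (y : Art.XA x A) (a b) :
    pq x E K y (a + b) = pq x E K y a + pq x E K y b :=
  map_add (stalkHom (cokernel.π K.arrow) y).hom a b

theorem pq_zero {A : Art k k} (K : Subobject (FGA.ET x E (Over.mk (Art.specOver A)))) (y : Art.XA x A) :
    pq x E K y 0 = 0 := map_zero (stalkHom (cokernel.π K.arrow) y).hom

theorem exists_of_pq {A : Art k k} (K : Subobject (FGA.ET x E (Over.mk (Art.specOver A)))) (y : Art.XA x A)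
    {e} (he : pq x E K y e = 0) : ∃ a, stalkHom K.arrow y a = e :=
  ((stalk_exact y K.arrow).2.2 e).1 he

theorem pq_smul {A : Art k k} (K : Subobject (FGA.ET x E (Over.mk (Art.specOver A)))) (y : Art.XA x A) (a : A) (e) :
    pq x E K y (a • e) = a • pq x E K y e :=
  (linA x (cokernel.π K.arrow) y).map_smul a e

/-- Elements of the closed fibre of a family lift. -/
theorem exists_rho_lift {A B : Art k k} (g : A ⟶ B) (hg : Function.Surjective g)
    (K : Subobject (FGA.ET x E (Over.mk (Art.specOver A))))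
    (L : Subobject (FGA.ET x E (Over.mk (Art.specOver B))))
    (hL : FGA.quotPull x E (ov g) K = L) (z : Art.XA x B) {b} (hb : pq x E L z b = 0) :
    ∃ e, pq x E K (Art.XAmap x g z) e = 0 ∧ rho x E (ov g) z (Art.XAmap x g z) rfl e = b := by
  subst hL
  obtain ⟨a, rfl⟩ := exists_of_pq x E _ z hb
  let j := Art.XAmap x g
  let f := (Scheme.Modules.pullback j).map K.arrow ≫ (eT x E g).hom
  obtain ⟨c, hc⟩ := (epi_iff_stalk_surjective (factorThruImageSubobject f)).1 inferInstance z a
  obtain ⟨w, hw⟩ := red_surjective (Art.XAmap x g) (Subobject.underlying.obj K) z (stalkMap_surjective x g hg z) c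
  refine ⟨stalkHom K.arrow _ w, pq_arrow x E K _ w, ?_⟩
  rw [← hc, ← hw]
  change stalkHom (eT x E g).hom z (red (Art.XAmap x g) _ z (stalkHom K.arrow _ w)) = _
  rw [← red_natural, ← stalkHom_comp]
  refine Eq.trans ?_ (stalkHom_comp (factorThruImageSubobject f) (imageSubobject f).arrow z
    (red (Art.XAmap x g) (Subobject.underlying.obj K) z w))
  exact congrArg (fun φ => stalkHom φ z (red (Art.XAmap x g) (Subobject.underlying.obj K) z w))
    (imageSubobject_arrow_comp f).symm

/-- Elements of a family restrict to elements of the restriction. -/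
theorem pq_rho {A B : Art k k} (g : A ⟶ B) {K : Subobject (FGA.ET x E (Over.mk (Art.specOver A)))}
    {L : Subobject (FGA.ET x E (Over.mk (Art.specOver B)))}
    (hL : FGA.quotPull x E (ov g) K = L) (z : Art.XA x B) (y : Art.XA x A) (hy : Art.XAmap x g z = y) {e}
    (he : pq x E K y e = 0) : pq x E L z (rho x E (ov g) z y hy e) = 0 := by
  obtain ⟨a, rfl⟩ := exists_of_pq x E K y he
  exact rho_mem x E g hL z y hy a

theorem rho0_apply {A : Art k k} (z : Art.XA x (Art.base k k)) (e) :
    rho0 x E A z e = stalkHom (eT x E (Art.toBase A)).hom z (red (Art.XAmap x (Art.toBase A)) _ z e) :=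
  rho_apply x E (ov (Art.toBase A)) z e

theorem pq_rho0_eq {A : Art k k} (L : FGA.QuotSet x E (Over.mk (Art.specOver (Art.base k k))))
    (z : Art.XA x (Art.base k k)) (e) :
    stalkHom (redQuot x E (Art.toBase A) L) z (red (Art.XAmap x (Art.toBase A)) _ z e) =
      pq x E L.1 z (rho0 x E A z e) :=
  (stalkHom_comp _ _ _ _).trans (congrArg (pq x E L.1 z) (rho0_apply x E z e).symm)

theorem rho0_eq_zero_iff {A : Art k k} (z : Art.XA x (Art.base k k)) (e) :
    rho0 x E A z e = 0 ↔
      e ∈ maximalIdeal A • (⊤ : Submodule A ((FGA.ET x E (Over.mk (Art.specOver A))).presheaf.stalk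
        (Art.XAmap x (Art.toBase A) z))) := by
  rw [← ker_toBase A]
  exact rho_eq_zero_iff x E (Art.toBase A) A.res_surjective z e

theorem rho0_smul {A : Art k k} (z : Art.XA x (Art.base k k)) (a : A) (e) :
    rho0 x E A z (a • e) = Art.toBase A a • rho0 x E A z e :=
  rho_smulA x E (Art.toBase A) z _ rfl a e

theorem exists_mem_smul_map {R M N : Type*} [CommRing R] [AddCommGroup M] [AddCommGroup N] [Module R M] [Module R N]
    (f : M →ₗ[R] N) (hf : Function.Surjective f) (I : Ideal R) {n : N} (hn : n ∈ I • (⊤ : Submodule R N)) :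
    ∃ m ∈ I • (⊤ : Submodule R M), f m = n := by
  have h : Submodule.map f (I • (⊤ : Submodule R M)) = I • ⊤ := by
    rw [Submodule.map_smul'', Submodule.map_top, LinearMap.range_eq_top.2 hf]
  rw [← h] at hn
  exact hn

section Dual

local notation "D" => Art.dual k k
local notation "ε" => (DefAffHull.epsD : Art.dual k k)

theorem eps_mem : (ε : Art.dual k k) ∈ maximalIdeal (Art.dual k k) :=
  (Art.mem_maximalIdeal_iff _ _).2 rfl

theorem eps_not_mem_bot : (ε : Art.dual k k) ∉ (⊥ : Ideal (Art.dual k k)) := fun h =>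
  one_ne_zero (α := k) (congrArg (TrivSqZeroExt.snd (R := k)) ((Submodule.mem_bot _).1 h : ε = 0))

theorem mul_eps (a : Art.dual k k) (ha : a ∈ maximalIdeal (Art.dual k k)) : a * ε = 0 := by
  obtain ⟨c, rfl⟩ := Ideal.mem_span_singleton'.1 (TangentFin.maximalIdeal_dual ha)
  rw [mul_assoc]
  exact mul_eq_zero_of_right c (DualNumber.eps_mul_eps (R := k))

theorem exists_eps_of_rho0 (z : Art.XA x (Art.base k k)) {e} (he : rho0 x E D z e = 0) :
    ∃ n, e = ε • n := by
  have h := Submodule.smul_mono TangentFin.maximalIdeal_dual le_rfl ((rho0_eq_zero_iff x E z e).1 he)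
  rw [Submodule.ideal_span_singleton_smul, Submodule.mem_smul_pointwise_iff_exists] at h
  obtain ⟨n, -, rfl⟩ := h
  exact ⟨n, rfl⟩

theorem eps_smul_eq_zero (z : Art.XA x (Art.base k k)) {e} (he : rho0 x E D z e = 0) : ε • e = 0 := by
  obtain ⟨n, rfl⟩ := exists_eps_of_rho0 x E z he
  rw [smul_smul, mul_eps _ eps_mem, zero_smul]

variable (L : FGA.QuotSet x E (Over.mk (Art.specOver (Art.base k k))))
  (K : FGA.QuotSet x E (Over.mk (Art.specOver (Art.dual k k))))
  (hK : FGA.quotPull x E (ov (Art.toBase (Art.dual k k))) K.1 = L.1)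

include hK in
theorem pq_eps_iff (z : Art.XA x (Art.base k k)) (n) :
    pq x E K.1 _ (ε • n) = 0 ↔ pq x E L.1 z (rho0 x E D z n) = 0 := by
  refine ⟨fun h => ?_, fun h => ?_⟩
  · let y := Art.XAmap x (Art.toBase (Art.dual k k)) z
    haveI := flat_stalk x K.2.2 y
    rw [pq_smul] at h
    have h1 : pq x E K.1 y n ∈ maximalIdeal (Art.dual k k) • (⊤ : Submodule (Art.dual k k) _) :=
      mem_maximal_smul_of_smul_mem (J := ⊥) eps_not_mem_bot (by rw [h]; exact zero_mem _)
    obtain ⟨m, hm, hmn⟩ := exists_mem_smul_map (linA x (cokernel.π K.1.arrow) y) (stalk_exact y K.1.arrow).2.1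
      (maximalIdeal (Art.dual k k)) h1
    have h3 : pq x E K.1 y (n - m) = 0 :=
      (map_sub _ n m).trans (sub_eq_zero.2 hmn.symm)
    have h4 := pq_rho x E (Art.toBase (Art.dual k k)) hK z y rfl h3
    have h5 : rho0 x E D z (n - m) = rho0 x E D z n := by
      rw [map_sub, (rho0_eq_zero_iff x E z m).2 hm, sub_zero]
    exact (congrArg (pq x E L.1 z) h5).symm.trans h4
  · obtain ⟨e, he, hen⟩ := exists_rho_lift x E (Art.toBase (Art.dual k k)) (Art.dual k k).res_surjective K.1 L.1 hK z h
    have h0 : ε • (n - e) = 0 := eps_smul_eq_zero x E z (by rw [map_sub, sub_eq_zero]; exact hen.symm)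
    rw [smul_sub, sub_eq_zero] at h0
    rw [h0, pq_smul, he, smul_zero]

include hK in
theorem exists_pq_eps (z : Art.XA x (Art.base k k)) {e} (he : pq x E L.1 z (rho0 x E D z e) = 0) :
    ∃ e', pq x E K.1 _ (e - ε • e') = 0 := by
  obtain ⟨e₂, he₂, h2⟩ := exists_rho_lift x E (Art.toBase (Art.dual k k)) (Art.dual k k).res_surjective K.1 L.1 hK z he
  obtain ⟨n, hn⟩ := exists_eps_of_rho0 x E z (e := e - e₂) (by rw [map_sub, sub_eq_zero]; exact h2.symm)
  exact ⟨n, by rw [← hn, sub_sub_cancel]; exact he₂⟩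

include hK in
/-- Reading off the tangent vector of a local section. -/
theorem exists_psi {M : (Art.XA x D).Modules} (m : M ⟶ FGA.ET x E (Over.mk (Art.specOver D)))
    (hm : ∀ z w, pq x E L.1 z (rho0 x E D z (stalkHom m _ w)) = 0) :
    ∃ Ψ : (Scheme.Modules.pullback (Art.XAmap x (Art.toBase D))).obj M ⟶ cokernel L.1.arrow,
      ∀ z w e', pq x E K.1 _ (stalkHom m _ w - ε • e') = 0 →
        stalkHom Ψ z (red (Art.XAmap x (Art.toBase D)) M z w) = pq x E L.1 z (rho0 x E D z e') := by
  have hq : Function.Surjective (Art.toBase (Art.dual k k)) := (Art.dual k k).res_surjective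
  haveI := epi_adjunct x (Art.toBase (Art.dual k k)) hq (redQuot x E (Art.toBase (Art.dual k k)) L) (redQuot_surjective x E (Art.toBase (Art.dual k k)) L)
  haveI := isClosedImmersion_XAmap x (Art.toBase (Art.dual k k)) hq
  let a := adjunct (Art.XAmap x (Art.toBase (Art.dual k k))) (redQuot x E (Art.toBase (Art.dual k k)) L)
  have ha : ∀ z e, stalkHom a (Art.XAmap x (Art.toBase (Art.dual k k)) z) e = 0 ↔ pq x E L.1 z (rho0 x E D z e) = 0 := fun z e => by
    refine (adjunct_eq_zero_iff (Art.XAmap x (Art.toBase (Art.dual k k))) (redQuot x E (Art.toBase (Art.dual k k)) L) z e).trans ?_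
    rw [pq_rho0_eq]
  have hb : ∀ y e, stalkHom (act x D ε _ ≫ cokernel.π K.1.arrow) y e = pq x E K.1 y (ε • e) := fun y e => by
    rw [stalkHom_comp, stalkHom_act']
  have hk : kernel.ι a ≫ act x D ε _ ≫ cokernel.π K.1.arrow = 0 := by
    refine eq_of_stalkHom_eq _ _ fun y => ConcreteCategory.hom_ext _ _ fun c => ?_
    obtain ⟨z, rfl⟩ := (surjective_XAmap x (Art.toBase (Art.dual k k))).surj y
    rw [stalkHom_zero, stalkHom_comp, hb, pq_eps_iff x E L K hK, ← ha, ← stalkHom_comp, kernel.condition,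
      stalkHom_zero]
  let μ := Abelian.epiDesc a (act x D ε _ ≫ cokernel.π K.1.arrow) hk
  have hμ : a ≫ μ = act x D ε _ ≫ cokernel.π K.1.arrow := Abelian.comp_epiDesc _ _ _
  have hμe : ∀ y e, stalkHom μ y (stalkHom a y e) = pq x E K.1 y (ε • e) := fun y e => by
    rw [← stalkHom_comp, hμ, hb]
  haveI : Mono μ := by
    rw [mono_iff_stalk_injective]
    intro y
    rw [injective_iff_map_eq_zero]
    intro c hc
    obtain ⟨e, rfl⟩ := (epi_iff_stalk_surjective a).1 inferInstance y c
    obtain ⟨z, rfl⟩ := (surjective_XAmap x (Art.toBase (Art.dual k k))).surj y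
    rw [hμe, pq_eps_iff x E L K hK, ← ha] at hc
    exact hc
  have hc : (m ≫ cokernel.π K.1.arrow) ≫ cokernel.π μ = 0 := by
    refine eq_of_stalkHom_eq _ _ fun y => ConcreteCategory.hom_ext _ _ fun w => ?_
    obtain ⟨z, rfl⟩ := (surjective_XAmap x (Art.toBase (Art.dual k k))).surj y
    obtain ⟨e', he'⟩ := exists_pq_eps x E L K hK z (hm z w)
    rw [pq, map_sub, sub_eq_zero] at he'
    rw [stalkHom_zero, stalkHom_comp, stalkHom_comp, he', ← pq, ← hμe, ← stalkHom_comp, cokernel.condition,
      stalkHom_zero]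
  let ψ := Abelian.monoLift μ (m ≫ cokernel.π K.1.arrow) hc
  obtain ⟨Ψ, hΨ⟩ : ∃ Ψ, adjunct (Art.XAmap x (Art.toBase (Art.dual k k))) Ψ = ψ :=
    ((Scheme.Modules.pullbackPushforwardAdjunction (Art.XAmap x (Art.toBase (Art.dual k k)))).homEquiv _ _).surjective ψ
  refine ⟨Ψ, fun z w e' he' => ?_⟩
  rw [pq, map_sub, sub_eq_zero] at he'
  have h1 : stalkHom ψ (Art.XAmap x (Art.toBase (Art.dual k k)) z) w = stalkHom a (Art.XAmap x (Art.toBase (Art.dual k k)) z) e' := by
    refine (mono_iff_stalk_injective μ).1 inferInstance _ ?_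
    rw [← stalkHom_comp, Abelian.monoLift_comp, stalkHom_comp, hμe]
    exact he'
  refine (spush_adjunct (Art.XAmap x (Art.toBase (Art.dual k k))) Ψ z w).symm.trans ?_
  rw [hΨ, h1]
  exact (spush_adjunct (Art.XAmap x (Art.toBase (Art.dual k k))) (redQuot x E (Art.toBase (Art.dual k k)) L) z e').trans (pq_rho0_eq x E L z e')

end Dual

end Groth.Agent.QuotDef
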