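import Groth.Agent.QuotDef.Eps

/-!
# The tangent space of the Quot functor
-/

set_option autoImplicit false
set_option linter.unusedSectionVars false
set_option maxHeartbeats 1600000
universe u
open CategoryTheory Limits AlgebraicGeometry TopologicalSpace Opposite IsLocalRing

set_option backward.isDefEq.respectTransparency false

namespace Groth.Agent.QuotDef

open ArtFun Groth.Agent.QCohLib

attribute [local instance] stMod

variable {k : Type u} [Field k] {X : Scheme.{u}} (x : X ⟶ Spec (CommRingCat.of k)) (E : X.Modules)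

local notation "D" => Art.dual k k
local notation "ε" => (DefAffHull.epsD : Art.dual k k)

variable (L : FGA.QuotSet x E (Over.mk (Art.specOver (Art.base k k))))

/-- The trivial family. -/
noncomputable def triv (A : Art k k) : FGA.QuotSet x E (Over.mk (Art.specOver A)) :=
  ⟨_, quotPull_mem x E (ov (Art.ofBase A)) L⟩

theorem triv_pull {A B : Art k k} (g : A ⟶ B) :
    FGA.quotPull x E (ov g) (triv x E L A).1 = (triv x E L B).1 := by
  refine (quotPull_ov_comp x E (Art.ofBase A) g L.1).trans ?_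
  rw [show Art.ofBase A ≫ g = Art.ofBase B from
    Art.hom_ext (Subsingleton.elim (α := k →ₐ[k] B) _ _)]
  rfl

theorem triv_base (A : Art k k) : FGA.quotPull x E (ov (Art.toBase A)) (triv x E L A).1 = L.1 := by
  refine (quotPull_ov_comp x E (Art.ofBase A) (Art.toBase A) L.1).trans ?_
  rw [Art.ofBase_toBase, quotPull_ov_id]

/-- `φ` is the tangent vector of `K`. -/
def IsTan (K : Subobject (FGA.ET x E (Over.mk (Art.specOver D))))
    (φ : Subobject.underlying.obj L.1 ⟶ cokernel L.1.arrow) : Prop :=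
  ∀ z a, ∃ e e', pq x E K (Art.XAmap x (Art.toBase D) z) e = 0 ∧
    pq x E (triv x E L D).1 (Art.XAmap x (Art.toBase D) z) (e - ε • e') = 0 ∧
    rho0 x E D z e = stalkHom L.1.arrow z a ∧ pq x E L.1 z (rho0 x E D z e') = stalkHom φ z a

variable (K : FGA.QuotSet x E (Over.mk (Art.specOver (Art.dual k k))))
  (hK : FGA.quotPull x E (ov (Art.toBase (Art.dual k k))) K.1 = L.1)

include hK in
theorem value_unique (z : Art.XA x (Art.base k k)) {e₁ e₁' e₂ e₂'}
    (h₁ : pq x E K.1 (Art.XAmap x (Art.toBase D) z) e₁ = 0)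
    (h₁' : pq x E (triv x E L D).1 (Art.XAmap x (Art.toBase D) z) (e₁ - ε • e₁') = 0)
    (h₂ : pq x E K.1 (Art.XAmap x (Art.toBase D) z) e₂ = 0)
    (h₂' : pq x E (triv x E L D).1 (Art.XAmap x (Art.toBase D) z) (e₂ - ε • e₂') = 0)
    (h : rho0 x E D z e₁ = rho0 x E D z e₂) :
    pq x E L.1 z (rho0 x E D z e₁') = pq x E L.1 z (rho0 x E D z e₂') := by
  obtain ⟨n, hn⟩ := exists_eps_of_rho0 x E z (e := e₁ - e₂) (by rw [map_sub, h, sub_self])
  have hn0 : pq x E L.1 z (rho0 x E D z n) = 0 := by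
    refine (pq_eps_iff x E L K hK z n).1 ?_
    rw [← hn, pq_sub, h₁, h₂, sub_self]
  have h3 : pq x E L.1 z (rho0 x E D z (n - (e₁' - e₂'))) = 0 := by
    refine (pq_eps_iff x E L (triv x E L D) (triv_base x E L D) z _).1 ?_
    rw [smul_sub, ← hn, smul_sub, show e₁ - e₂ - (ε • e₁' - ε • e₂') = (e₁ - ε • e₁') - (e₂ - ε • e₂') by abel]
    rw [pq_sub, h₁', h₂', sub_self]
  rw [map_sub, map_sub, pq_sub, hn0, zero_sub, neg_eq_zero, pq_sub, sub_eq_zero] at h3
  exact h3

include hK in
theorem IsTan.value {φ} (hφ : IsTan x E L K.1 φ) {z : Art.XA x (Art.base k k)} {e e' a}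
    (h : pq x E K.1 (Art.XAmap x (Art.toBase D) z) e = 0)
    (h' : pq x E (triv x E L D).1 (Art.XAmap x (Art.toBase D) z) (e - ε • e') = 0)
    (ha : rho0 x E D z e = stalkHom L.1.arrow z a) :
    pq x E L.1 z (rho0 x E D z e') = stalkHom φ z a := by
  obtain ⟨e₂, e₂', h₂, h₂', ha₂, hv⟩ := hφ z a
  exact (value_unique x E L K hK z h h' h₂ h₂' (ha.trans ha₂.symm)).trans hv

include hK in
theorem IsTan.eq {φ φ'} (hφ : IsTan x E L K.1 φ) (hφ' : IsTan x E L K.1 φ') : φ = φ' := by
  refine eq_of_stalkHom_eq _ _ fun z => ConcreteCategory.hom_ext _ _ fun a => ?_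
  obtain ⟨e, e', h, h', ha, hv⟩ := hφ z a
  exact hv.symm.trans (hφ'.value x E L K hK h h' ha)

include hK in
/-- Every deformation has a tangent vector. -/
theorem exists_isTan : ∃ φ, IsTan x E L K.1 φ := by
  have hq : Function.Surjective (Art.toBase (Art.dual k k)) := (Art.dual k k).res_surjective
  have hm : ∀ z w, pq x E L.1 z (rho0 x E D z (stalkHom K.1.arrow _ w)) = 0 := fun z w =>
    rho_mem x E (Art.toBase (Art.dual k k)) hK z _ rfl w
  obtain ⟨Ψ, hΨ⟩ := exists_psi x E L (triv x E L D) (triv_base x E L D) K.1.arrow hm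
  let f := (Scheme.Modules.pullback (Art.XAmap x (Art.toBase (Art.dual k k)))).map K.1.arrow ≫ (eT x E (Art.toBase (Art.dual k k))).hom
  have hf : f ≫ cokernel.π L.1.arrow = 0 := by
    refine eq_of_stalkHom_eq _ _ fun z => ConcreteCategory.hom_ext _ _ fun c => ?_
    obtain ⟨w, hw⟩ := red_surjective (Art.XAmap x (Art.toBase (Art.dual k k))) _ z (stalkMap_surjective x (Art.toBase (Art.dual k k)) hq z) c
    subst hw
    rw [stalkHom_zero, stalkHom_comp, stalkHom_comp]
    refine (congrArg (fun m => stalkHom (cokernel.π L.1.arrow) z (stalkHom (eT x E (Art.toBase (Art.dual k k))).hom z m))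
      (red_natural (Art.XAmap x (Art.toBase (Art.dual k k))) z K.1.arrow w)).trans ?_
    have h := hm z w
    rw [rho0_apply] at h
    exact h
  let κ := Abelian.monoLift L.1.arrow f hf
  haveI : Mono ((Scheme.Modules.pullback (Art.XAmap x (Art.toBase (Art.dual k k)))).map K.1.arrow) := mono_pullback_map x (Art.toBase (Art.dual k k)) hq K.1.arrow K.2.2
  haveI : Mono κ := mono_of_mono_fac (Abelian.monoLift_comp L.1.arrow f hf)
  have hκ : ∀ z w, stalkHom L.1.arrow z (stalkHom κ z (red (Art.XAmap x (Art.toBase (Art.dual k k))) _ z w)) =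
      rho0 x E D z (stalkHom K.1.arrow _ w) := fun z w => by
    rw [← stalkHom_comp, Abelian.monoLift_comp, stalkHom_comp]
    rw [rho0_apply]
    exact congrArg (stalkHom (eT x E (Art.toBase (Art.dual k k))).hom z) (red_natural (Art.XAmap x (Art.toBase (Art.dual k k))) z K.1.arrow w)
  haveI : Epi κ := by
    rw [epi_iff_stalk_surjective]
    intro z a
    obtain ⟨e, he, hea⟩ := exists_rho_lift x E (Art.toBase (Art.dual k k)) hq K.1 L.1 hK z (pq_arrow x E L.1 z a)
    obtain ⟨w, rfl⟩ := exists_of_pq x E K.1 _ he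
    exact ⟨red (Art.XAmap x (Art.toBase (Art.dual k k))) _ z w,
      (mono_iff_stalk_injective L.1.arrow).1 inferInstance z ((hκ z w).trans hea)⟩
  haveI : IsIso κ := isIso_of_mono_of_epi κ
  refine ⟨inv κ ≫ Ψ, fun z a => ?_⟩
  obtain ⟨e, he, hea⟩ := exists_rho_lift x E (Art.toBase (Art.dual k k)) hq K.1 L.1 hK z (pq_arrow x E L.1 z a)
  obtain ⟨w, rfl⟩ := exists_of_pq x E K.1 _ he
  obtain ⟨e', he'⟩ := exists_pq_eps x E L (triv x E L D) (triv_base x E L D) z (hm z w)
  refine ⟨_, e', he, he', hea, (hΨ z w e' he').symm.trans ?_⟩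
  have h1 : a = stalkHom κ z (red (Art.XAmap x (Art.toBase (Art.dual k k))) _ z w) :=
    (mono_iff_stalk_injective L.1.arrow).1 inferInstance z (hea.symm.trans (hκ z w).symm)
  rw [h1, ← stalkHom_comp, IsIso.hom_inv_id_assoc]

include hK in
theorem eq_of_isTan (K' : FGA.QuotSet x E (Over.mk (Art.specOver D)))
    (hK' : FGA.quotPull x E (ov (Art.toBase D)) K'.1 = L.1) {φ} (h : IsTan x E L K.1 φ) (h' : IsTan x E L K'.1 φ) :
    K.1 ≤ K'.1 := by
  have h0 : K.1.arrow ≫ cokernel.π K'.1.arrow = 0 := by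
    refine eq_of_stalkHom_eq _ _ fun y => ConcreteCategory.hom_ext _ _ fun w => ?_
    obtain ⟨z, rfl⟩ := (surjective_XAmap x (Art.toBase D)).surj y
    rw [stalkHom_zero, stalkHom_comp]
    let e := stalkHom K.1.arrow _ w
    have he : pq x E K.1 _ e = 0 := pq_arrow x E K.1 _ w
    obtain ⟨e', he'⟩ := exists_pq_eps x E L (triv x E L D) (triv_base x E L D) z (pq_rho x E _ hK z _ rfl he)
    obtain ⟨a, ha⟩ := exists_of_pq x E L.1 z (pq_rho x E _ hK z _ rfl he)
    have hv := h.value x E L K hK he he' ha.symm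
    obtain ⟨e₂, e₂', h₂, h₂', ha₂, hv₂⟩ := h' z a
    obtain ⟨n, hn⟩ := exists_eps_of_rho0 x E z (e := e - e₂) (by rw [map_sub, ha₂]; exact sub_eq_zero.2 ha.symm)
    have h3 : pq x E L.1 z (rho0 x E D z (n - (e' - e₂'))) = 0 := by
      refine (pq_eps_iff x E L (triv x E L D) (triv_base x E L D) z _).1 ?_
      rw [smul_sub, ← hn, smul_sub, show e - e₂ - (ε • e' - ε • e₂') = (e - ε • e') - (e₂ - ε • e₂') by abel]
      rw [pq_sub, he', h₂', sub_self]
    rw [map_sub, map_sub, pq_sub, pq_sub, hv, hv₂, sub_self, sub_zero] at h3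
    have h4 := (pq_eps_iff x E L K' hK' z n).2 h3
    rw [← hn, pq_sub, h₂, sub_zero] at h4
    exact h4
  exact Subobject.le_of_comm (Abelian.monoLift K'.1.arrow K.1.arrow h0) (Abelian.monoLift_comp _ _ _)

local notation "jD" => Art.XAmap x (Art.toBase (Art.dual k k))

/-- The kernel of the reduction. -/
noncomputable abbrev ιD : kernel (adjunct jD (redQuot x E (Art.toBase (Art.dual k k)) L)) ⟶
    FGA.ET x E (Over.mk (Art.specOver D)) :=
  kernel.ι (adjunct jD (redQuot x E (Art.toBase (Art.dual k k)) L))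

theorem pq_rho0_iff (z : Art.XA x (Art.base k k)) (e) :
    pq x E L.1 z (rho0 x E D z e) = 0 ↔ ∃ w, stalkHom (ιD x E L) (jD z) w = e := by
  haveI := epi_adjunct x (Art.toBase (Art.dual k k)) (Art.dual k k).res_surjective
    (redQuot x E (Art.toBase (Art.dual k k)) L) (redQuot_surjective x E (Art.toBase (Art.dual k k)) L)
  haveI := isClosedImmersion_XAmap x (Art.toBase (Art.dual k k)) (Art.dual k k).res_surjective
  rw [← pq_rho0_eq x E L z e]
  exact (adjunct_eq_zero_iff jD (redQuot x E (Art.toBase (Art.dual k k)) L) z e).symm.trans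
    (stalk_kernel (adjunct jD (redQuot x E (Art.toBase (Art.dual k k)) L)) _ e)

theorem exists_beta : ∃ β : cokernel ((Scheme.Modules.pullback jD).map (ιD x E L)) ≅ cokernel L.1.arrow,
    ∀ z e, stalkHom β.hom z (stalkHom (cokernel.π _) z (red jD _ z e)) = pq x E L.1 z (rho0 x E D z e) := by
  have hf : (Scheme.Modules.pullback jD).map (ιD x E L) ≫ redQuot x E (Art.toBase (Art.dual k k)) L = 0 :=
    comp_eq_zero_of_comp_adjunct jD _ _ (kernel.condition _)
  have hβ : ∀ z e, stalkHom (cokernel.desc _ _ hf) z (stalkHom (cokernel.π _) z (red jD _ z e)) =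
      pq x E L.1 z (rho0 x E D z e) := fun z e => by
    rw [← stalkHom_comp, cokernel.π_desc]
    exact pq_rho0_eq x E L z e
  haveI : IsIso (cokernel.desc _ _ hf) := by
    rw [isIso_iff_stalk_bijective]
    intro z
    refine ⟨(injective_iff_map_eq_zero _).2 fun c hc => ?_, fun c => ?_⟩
    · obtain ⟨c, rfl⟩ := (epi_iff_stalk_surjective (cokernel.π ((Scheme.Modules.pullback jD).map (ιD x E L)))).1
        inferInstance z c
      obtain ⟨e, rfl⟩ := red_surjective jD _ z
        (stalkMap_surjective x (Art.toBase (Art.dual k k)) (Art.dual k k).res_surjective z) c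
      obtain ⟨w, rfl⟩ := (pq_rho0_iff x E L z e).1 ((hβ z e).symm.trans hc)
      rw [← red_natural, ← stalkHom_comp, cokernel.condition, stalkHom_zero]
    · obtain ⟨d, hd⟩ := (stalk_exact z L.1.arrow).2.1 c
      obtain ⟨e, he⟩ := rho_surjective x E (Art.toBase (Art.dual k k)) (Art.dual k k).res_surjective z d
      exact ⟨_, ((hβ z e).trans (congrArg (pq x E L.1 z) he)).trans hd⟩
  exact ⟨asIso (cokernel.desc _ _ hf), hβ⟩

theorem exists_gamma : ∃ γ : (Scheme.Modules.pullback jD).obj (kernel (adjunct jD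
      (redQuot x E (Art.toBase (Art.dual k k)) L))) ⟶ Subobject.underlying.obj L.1,
    ∀ z w, stalkHom L.1.arrow z (stalkHom γ z (red jD _ z w)) = rho0 x E D z (stalkHom (ιD x E L) _ w) := by
  have hf : ((Scheme.Modules.pullback jD).map (ιD x E L) ≫ (eT x E (Art.toBase (Art.dual k k))).hom) ≫ cokernel.π L.1.arrow = 0 :=
    (Category.assoc _ _ _).trans (comp_eq_zero_of_comp_adjunct jD _ _ (kernel.condition _))
  refine ⟨Abelian.monoLift L.1.arrow _ hf, fun z w => ?_⟩
  rw [← stalkHom_comp, Abelian.monoLift_comp, stalkHom_comp]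
  rw [rho0_apply]
  exact congrArg (stalkHom (eT x E (Art.toBase (Art.dual k k))).hom z) (red_natural jD z (ιD x E L) w)

theorem stalk_inv_hom {Y : Scheme.{u}} {M N : Y.Modules} (β : M ≅ N) (y : Y) (m : M.presheaf.stalk y) :
    stalkHom β.inv y (stalkHom β.hom y m) = m := by
  rw [← stalkHom_comp, Iso.hom_inv_id, stalkHom_id]

/-- Every homomorphism is a tangent vector. -/
theorem exists_of_hom [LocallyOfFiniteType x] (hE : Coh.IsCoh E)
    (φ : Subobject.underlying.obj L.1 ⟶ cokernel L.1.arrow) :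
    ∃ K : FGA.QuotSet x E (Over.mk (Art.specOver D)),
      FGA.quotPull x E (ov (Art.toBase D)) K.1 = L.1 ∧ IsTan x E L K.1 φ := by
  have hq : Function.Surjective (Art.toBase (Art.dual k k)) := (Art.dual k k).res_surjective
  haveI := isClosedImmersion_XAmap x (Art.toBase (Art.dual k k)) hq
  have hker : RingHom.ker (Art.toBase (Art.dual k k)).toAlgHom.toRingHom = Ideal.span {ε} := by
    rw [ker_toBase]
    exact le_antisymm TangentFin.maximalIdeal_dual ((Ideal.span_singleton_le_iff_mem _).2 eps_mem)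
  obtain ⟨τ, hιτ⟩ : ∃ τ : FGA.ET x E (Over.mk (Art.specOver D)) ⟶ _,
      ∀ y e, stalkHom (ιD x E L) y (stalkHom τ y e) = ε • e := ⟨kernel.lift _ (act x D ε _) (act_comp_adjunct x (Art.toBase (Art.dual k k)) hq hker (redQuot x E (Art.toBase (Art.dual k k)) L)),
    fun y e => by rw [← stalkHom_comp, kernel.lift_ι, stalkHom_act']⟩
  obtain ⟨Ψ, hΨ⟩ := exists_psi x E L (triv x E L D) (triv_base x E L D) (ιD x E L) fun z w =>
    (pq_rho0_iff x E L z _).2 ⟨w, rfl⟩
  obtain ⟨γ, hγ⟩ := exists_gamma x E L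
  obtain ⟨β, hβ⟩ := exists_beta x E L
  obtain ⟨r, hr⟩ : ∃ r : (Scheme.Modules.pullback jD).obj (kernel (adjunct jD (redQuot x E (Art.toBase (Art.dual k k)) L))) ⟶
      cokernel ((Scheme.Modules.pullback jD).map (ιD x E L)), ∀ z w e', pq x E (triv x E L D).1 _ (stalkHom (ιD x E L) _ w - ε • e') = 0 →
      stalkHom r z (red jD _ z w) = stalkHom β.inv z
        (pq x E L.1 z (rho0 x E D z e') - stalkHom φ z (stalkHom γ z (red jD _ z w))) :=
    ⟨(Ψ - γ ≫ φ) ≫ β.inv, fun z w e' h => by rw [stalkHom_comp, stalkHom_sub, stalkHom_comp, hΨ z w e' h]⟩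
  have hr' : (Scheme.Modules.pullback jD).map τ ≫ r = cokernel.π _ := by
    refine eq_of_stalkHom_eq _ _ fun z => ConcreteCategory.hom_ext _ _ fun c => ?_
    obtain ⟨e, rfl⟩ := red_surjective jD _ z (stalkMap_surjective x (Art.toBase (Art.dual k k)) hq z) c
    refine (stalkHom_comp _ _ _ _).trans ((congrArg (stalkHom r z) (red_natural jD z τ e)).trans
      ((hr z _ e (by rw [hιτ, sub_self, pq_zero])).trans ?_))
    have h0 : stalkHom γ z (red jD _ z (stalkHom τ _ e)) = 0 := by
      refine (mono_iff_stalk_injective L.1.arrow).1 inferInstance z ?_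
      rw [hγ, hιτ, map_zero, rho0_eq_zero_iff]
      exact Submodule.smul_mem_smul eps_mem Submodule.mem_top
    have h1 : pq x E L.1 z (rho0 x E D z e) - stalkHom φ z (stalkHom γ z (red jD _ z (stalkHom τ _ e))) =
        pq x E L.1 z (rho0 x E D z e) :=
      (congrArg (fun m => pq x E L.1 z (rho0 x E D z e) - stalkHom φ z m) h0).trans
        ((congrArg (pq x E L.1 z (rho0 x E D z e) - ·) (map_zero (stalkHom φ z).hom)).trans (sub_zero _))
    exact (congrArg (stalkHom β.inv z) (h1.trans (hβ z e).symm)).trans (stalk_inv_hom β z _)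
  obtain ⟨K, hK, hK'⟩ := exists_lift_of_retraction x E hE (Art.toBase (Art.dual k k)) hq hker mul_eps L τ hιτ r hr'
  refine ⟨K, hK, fun z a => ?_⟩
  obtain ⟨e₂, he₂, he₂a⟩ := exists_rho_lift x E (Art.toBase (Art.dual k k)) hq _ L.1 (triv_base x E L D) z (pq_arrow x E L.1 z a)
  obtain ⟨d, hd⟩ := (stalk_exact z L.1.arrow).2.1 (stalkHom φ z a)
  obtain ⟨e', rfl⟩ := rho_surjective x E (Art.toBase (Art.dual k k)) hq z d
  have hlift : rho0 x E D z (e₂ + ε • e') = stalkHom L.1.arrow z a := by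
    rw [map_add, (rho0_eq_zero_iff x E z _).2 (Submodule.smul_mem_smul eps_mem Submodule.mem_top), add_zero]
    exact he₂a
  have he' : pq x E (triv x E L D).1 _ (e₂ + ε • e' - ε • e') = 0 := by rw [add_sub_cancel_right]; exact he₂
  obtain ⟨w, hw⟩ := (pq_rho0_iff x E L z (e₂ + ε • e')).1 (by rw [hlift, pq_arrow])
  refine ⟨e₂ + ε • e', e', ?_, he', hlift, hd⟩
  rw [← hw]
  refine hK' _ w ?_
  refine (adjunct_eq_zero_iff jD r z w).2 ?_
  have hγa : stalkHom γ z (red jD _ z w) = a := by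
    refine (mono_iff_stalk_injective L.1.arrow).1 inferInstance z ?_
    rw [hγ, hw, hlift]
  rw [hr z w e' (by rw [hw]; exact he'), hγa]
  exact (congrArg (stalkHom β.inv z) (sub_eq_zero.2 hd)).trans (map_zero _)

end Groth.Agent.QuotDef
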