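import Groth.Agent.CohFinite.Sub
import Groth.Agent.QuotDef.Tangent
import Groth.Agent.HomTangent.TangentPoint
import Groth.Prelude.Def_KLin

/-!
# Linearity of the tangent vector, and the tangent space of the Quot scheme
-/

set_option autoImplicit false
set_option linter.unusedSectionVars false
set_option maxHeartbeats 1600000
universe u
open CategoryTheory Limits AlgebraicGeometry TopologicalSpace Opposite IsLocalRing

set_option backward.isDefEq.respectTransparency false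

namespace Groth.Agent.QuotDef

open ArtFun Groth.Agent.QCohLib

attribute [local instance] stMod

variable {k : Type u} [Field k] {X : Scheme.{u}} (x : X ⟶ Spec (CommRingCat.of k)) (E : X.Modules)

local notation "D" => Art.dual k k
local notation "ε" => (DefAffHull.epsD : Art.dual k k)
local notation "jA" A => Art.XAmap x (Art.toBase A)

theorem j_comm {A B : Art k k} (g : A ⟶ B) (z : Art.XA x (Art.base k k)) :
    Art.XAmap x g (Art.XAmap x (Art.toBase B) z) = Art.XAmap x (Art.toBase A) z := by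
  rw [← Scheme.Hom.comp_apply, ← Art.XAmap_comp, Art.eq_toBase (g ≫ Art.toBase B)]

/-- Restriction from `A` to `B`, above a point of the closed fibre. -/
noncomputable abbrev rhoJ {A B : Art k k} (g : A ⟶ B) (z : Art.XA x (Art.base k k)) :
    (FGA.ET x E (Over.mk (Art.specOver A))).presheaf.stalk (Art.XAmap x (Art.toBase A) z) →+
      (FGA.ET x E (Over.mk (Art.specOver B))).presheaf.stalk (Art.XAmap x (Art.toBase B) z) :=
  rho x E (ov g) (Art.XAmap x (Art.toBase B) z) (Art.XAmap x (Art.toBase A) z) (j_comm x g z)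

theorem rho_congr {A B : Art k k} {g g' : A ⟶ B} (h : g = g') (z : Art.XA x B) (y : Art.XA x A)
    (hy : Art.XAmap x g z = y) (hy' : Art.XAmap x g' z = y)
    (m : (FGA.ET x E (Over.mk (Art.specOver A))).presheaf.stalk y) :
    rho x E (ov g) z y hy m = rho x E (ov g') z y hy' m := by
  subst h; rfl

theorem rho0_rhoJ {A B : Art k k} (g : A ⟶ B) (z : Art.XA x (Art.base k k)) (m) :
    rho0 x E B z (rhoJ x E g z m) = rho0 x E A z m := by
  refine (rho_comp_ov x E g (Art.toBase B) z (Art.XAmap x (Art.toBase B) z) (Art.XAmap x (Art.toBase A) z) rfl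
    (j_comm x g z) (by rw [Art.eq_toBase (g ≫ Art.toBase B)]) m).trans ?_
  exact rho_congr x E (Art.eq_toBase _) z _ _ rfl m

theorem rhoJ_smul {A B : Art k k} (g : A ⟶ B) (z : Art.XA x (Art.base k k)) (a : A) (m) :
    rhoJ x E g z (a • m) = g a • rhoJ x E g z m :=
  rho_smulA x E g (Art.XAmap x (Art.toBase B) z) _ (j_comm x g z) a m

variable (L : FGA.QuotSet x E (Over.mk (Art.specOver (Art.base k k))))

theorem pq_rhoJ {A B : Art k k} (g : A ⟶ B) {K : Subobject (FGA.ET x E (Over.mk (Art.specOver A)))}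
    {K' : Subobject (FGA.ET x E (Over.mk (Art.specOver B)))} (h : FGA.quotPull x E (ov g) K = K')
    (z : Art.XA x (Art.base k k)) {e} (he : pq x E K (Art.XAmap x (Art.toBase A) z) e = 0) :
    pq x E K' (Art.XAmap x (Art.toBase B) z) (rhoJ x E g z e) = 0 :=
  pq_rho x E g h _ _ (j_comm x g z) he

theorem rho0_dual_smul (z : Art.XA x (Art.base k k)) (c : Art.dual k k) (m) :
    pq x E L.1 z (rho0 x E D z (c • m)) = Art.toBase D c • pq x E L.1 z (rho0 x E D z m) :=
  (congrArg (pq x E L.1 z) (rho0_smul x E z c m)).trans (pq_smul x E L.1 z _ _)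

/-- Scaling the parameter scales the tangent vector. -/
theorem isTan_scale (c : k) {K K' : FGA.QuotSet x E (Over.mk (Art.specOver D))}
    (hK' : FGA.quotPull x E (ov (Art.scale c)) K.1 = K'.1) {φ ψ} (h : IsTan x E L K.1 φ)
    (hψ : ∀ z a, stalkHom ψ z a = (show Art.base k k from c) • stalkHom φ z a) : IsTan x E L K'.1 ψ := by
  intro z a
  obtain ⟨e, e', he, he', ha, hv⟩ := h z a
  refine ⟨rhoJ x E (Art.scale c) z e, (TangentFin.cD k k c) • rhoJ x E (Art.scale c) z e',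
    pq_rhoJ x E _ hK' z he, ?_, (rho0_rhoJ x E _ z e).trans ha, ?_⟩
  · have h1 := pq_rhoJ x E _ (triv_pull x E L (Art.scale c)) z he'
    have hε : (Art.scale c : D ⟶ D) ε = ε * TangentFin.cD k k c := by
      refine TrivSqZeroExt.ext ?_ ?_
      · change (0 : k) = 0 * c
        rw [zero_mul]
      · refine Eq.trans ?_ (DefAffHull.epsD_mul_snd _).symm
        change c • (1 : k) = c
        rw [smul_eq_mul, mul_one]
    rw [map_sub, rhoJ_smul, hε, mul_smul] at h1
    exact h1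
  · rw [rho0_dual_smul, rho0_rhoJ, hψ z a, hv]
    rfl

theorem exists_two {A : Art k k} (η : Fin 2 → A) (hη : maximalIdeal A ≤ Ideal.span (Set.range η)) {M : Type u}
    [AddCommGroup M] [Module A M] {m : M} (hm : m ∈ maximalIdeal A • (⊤ : Submodule A M)) :
    ∃ e₁ e₂ : M, m = η 0 • e₁ + η 1 • e₂ := by
  refine Submodule.smul_induction_on hm (fun r hr n _ => ?_) fun a b ⟨a₁, a₂, ha⟩ ⟨b₁, b₂, hb⟩ =>
    ⟨a₁ + b₁, a₂ + b₂, by rw [ha, hb, smul_add, smul_add]; abel⟩
  obtain ⟨c, hc⟩ := Ideal.mem_span_range_iff_exists_fun.1 (hη hr)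
  exact ⟨c 0 • n, c 1 • n, by rw [← hc, Fin.sum_univ_two, add_smul, mul_comm, mul_smul, mul_comm (c 1), mul_smul]⟩

/-- The universal sum. -/
theorem isTan_add {U : FGA.QuotSet x E (Over.mk (Art.specOver (Art.dual2 k k)))}
    (hU : FGA.quotPull x E (ov (Art.toBase (Art.dual2 k k))) U.1 = L.1)
    {K K₁ K₂ : FGA.QuotSet x E (Over.mk (Art.specOver D))}
    (h₀ : FGA.quotPull x E (ov Art.plus) U.1 = K.1) (h₁ : FGA.quotPull x E (ov Art.pr₁) U.1 = K₁.1)
    (h₂ : FGA.quotPull x E (ov Art.pr₂) U.1 = K₂.1) {φ₁ φ₂} (t₁ : IsTan x E L K₁.1 φ₁) (t₂ : IsTan x E L K₂.1 φ₂) :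
    IsTan x E L K.1 (φ₁ + φ₂) := by
  intro z a
  obtain ⟨e, he, hea⟩ := exists_rho_lift x E (Art.toBase (Art.dual2 k k)) (Art.dual2 k k).res_surjective U.1 L.1 hU z
    (pq_arrow x E L.1 z a)
  obtain ⟨t, ht, hta⟩ := exists_rho_lift x E (Art.toBase (Art.dual2 k k)) (Art.dual2 k k).res_surjective
    (triv x E L (Art.dual2 k k)).1 L.1 (triv_base x E L _) z (pq_arrow x E L.1 z a)
  obtain ⟨e₁, e₂, hd⟩ := exists_two TangentFin.epsD2 TangentFin.maximalIdeal_dual2
    ((rho0_eq_zero_iff x E z (e - t)).1 (by rw [map_sub, sub_eq_zero]; exact hea.trans hta.symm))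
  have key : ∀ (g : Art.dual2 k k ⟶ D) (K' : FGA.QuotSet x E (Over.mk (Art.specOver D))) (c₀ c₁ : D),
      FGA.quotPull x E (ov g) U.1 = K'.1 → g (TangentFin.epsD2 0) = ε * c₀ → g (TangentFin.epsD2 1) = ε * c₁ →
      pq x E K'.1 _ (rhoJ x E g z e) = 0 ∧
      pq x E (triv x E L D).1 _ (rhoJ x E g z e - ε • (c₀ • rhoJ x E g z e₁ + c₁ • rhoJ x E g z e₂)) = 0 ∧
      rho0 x E D z (rhoJ x E g z e) = stalkHom L.1.arrow z a ∧
      pq x E L.1 z (rho0 x E D z (c₀ • rhoJ x E g z e₁ + c₁ • rhoJ x E g z e₂)) =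
        Art.toBase D c₀ • pq x E L.1 z (rho0 x E (Art.dual2 k k) z e₁) +
          Art.toBase D c₁ • pq x E L.1 z (rho0 x E (Art.dual2 k k) z e₂) := by
    intro g K' c₀ c₁ hg hg₀ hg₁
    refine ⟨pq_rhoJ x E g hg z he, ?_, (rho0_rhoJ x E g z e).trans hea, ?_⟩
    · have h1 := pq_rhoJ x E g (triv_pull x E L g) z ht
      have h2 : rhoJ x E g z e - ε • (c₀ • rhoJ x E g z e₁ + c₁ • rhoJ x E g z e₂) = rhoJ x E g z t := by
        rw [show e = t + (TangentFin.epsD2 0 • e₁ + TangentFin.epsD2 1 • e₂) by rw [← hd]; abel,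
          map_add, map_add, rhoJ_smul, rhoJ_smul, hg₀, hg₁, mul_smul, mul_smul, smul_add, add_sub_cancel_right]
      rw [h2]; exact h1
    · rw [map_add, pq_add, rho0_dual_smul, rho0_dual_smul, rho0_rhoJ, rho0_rhoJ]
  have hK₁ : FGA.quotPull x E (ov (Art.toBase D)) K₁.1 = L.1 := by
    rw [← h₁, quotPull_ov_comp, Art.eq_toBase (Art.pr₁ ≫ Art.toBase D)]; exact hU
  have hK₂ : FGA.quotPull x E (ov (Art.toBase D)) K₂.1 = L.1 := by
    rw [← h₂, quotPull_ov_comp, Art.eq_toBase (Art.pr₂ ≫ Art.toBase D)]; exact hU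
  obtain ⟨p₀, p₀', pa, pv⟩ := key Art.plus K 1 1 h₀
    (TrivSqZeroExt.ext (zero_mul _).symm ((add_zero (1 : k)).trans (DefAffHull.epsD_mul_snd (1 : Art.dual k k)).symm))
    (TrivSqZeroExt.ext (zero_mul _).symm ((zero_add (1 : k)).trans (DefAffHull.epsD_mul_snd (1 : Art.dual k k)).symm))
  obtain ⟨q₀, q₀', qa, qv⟩ := key Art.pr₁ K₁ 1 0 h₁
    (TrivSqZeroExt.ext (zero_mul _).symm (DefAffHull.epsD_mul_snd (1 : Art.dual k k)).symm)
    (TrivSqZeroExt.ext (zero_mul _).symm (DefAffHull.epsD_mul_snd (0 : Art.dual k k)).symm)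
  obtain ⟨r₀, r₀', ra, rv⟩ := key Art.pr₂ K₂ 0 1 h₂
    (TrivSqZeroExt.ext (zero_mul _).symm (DefAffHull.epsD_mul_snd (0 : Art.dual k k)).symm)
    (TrivSqZeroExt.ext (zero_mul _).symm (DefAffHull.epsD_mul_snd (1 : Art.dual k k)).symm)
  refine ⟨_, _, p₀, p₀', pa, pv.trans ?_⟩
  have v₁ := qv.symm.trans (t₁.value x E L K₁ hK₁ q₀ q₀' qa)
  have v₂ := rv.symm.trans (t₂.value x E L K₂ hK₂ r₀ r₀' ra)
  rw [map_one, map_zero, one_smul, zero_smul, add_zero] at v₁
  rw [map_one, map_zero, one_smul, zero_smul, zero_add] at v₂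
  rw [map_one, one_smul, one_smul, v₁, v₂]
  exact (CohFinite.stalkHom_add φ₁ φ₂ z a).symm

end Groth.Agent.QuotDef
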