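import Groth.Agent.QuotDef.Tangent2

/-!
# The Zariski tangent space of the Quot scheme at a rational point
-/

set_option autoImplicit false
set_option linter.unusedSectionVars false
set_option maxHeartbeats 1600000
universe u
open CategoryTheory Limits AlgebraicGeometry TopologicalSpace Opposite IsLocalRing

set_option backward.isDefEq.respectTransparency false

namespace Groth.Agent.QuotDef

open ArtFun Groth.Agent Groth.Agent.QCohLib Groth.Agent.HilbLoc.Rep

attribute [local instance] stMod

section Alg

variable {k : Type u} [Field k] {R : Type u} [CommRing R] [IsLocalRing R] [IsNoetherianRing R] [Algebra k R]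
  {res : R →ₐ[k] k} {W : Type u} [AddCommGroup W] [Module k W]

/-- A bijection of the tangent vectors with a vector space, compatible with sums and scalars. -/
theorem finrank_cotangent_of_map (Φ : HomSet R res (Art.dual k k) → W) (hΦ : Function.Bijective Φ)
    (hplus : ∀ c : HomSet R res (Art.dual2 k k),
      Φ (HomSet.map Art.plus c) = Φ (HomSet.map Art.pr₁ c) + Φ (HomSet.map Art.pr₂ c))
    (hscale : ∀ (a : k) c, Φ (HomSet.map (Art.scale a) c) = a • Φ c) :
    Module.finrank (ResidueField R) (CotangentSpace R) = Module.finrank k W := by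
  let P : Module.Dual k (CotangentSpace R) → HomSet R res (Art.dual k k) := fun l =>
    ⟨HomTangent.point res l, AlgHom.ext fun _ => rfl⟩
  have hP : Function.Bijective P := by
    refine ⟨fun l l' h => LinearMap.ext fun z => ?_,
      fun χ => (HomTangent.exists_functional res χ).imp fun l hl => Subtype.ext hl⟩
    obtain ⟨⟨r, hr⟩, rfl⟩ := (maximalIdeal R).toCotangent_surjective z
    have h' : TrivSqZeroExt.snd (HomTangent.point res l r) = TrivSqZeroExt.snd (HomTangent.point res l' r) :=
      congrArg TrivSqZeroExt.snd (DFunLike.congr_fun (congrArg Subtype.val h) r)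
    change l (HomTangent.dcl res r) = l' (HomTangent.dcl res r) at h'
    rwa [HomTangent.dcl_of_mem res hr] at h'
  let L : Module.Dual k (CotangentSpace R) →ₗ[k] W :=
    { toFun := fun l => Φ (P l)
      map_add' := fun l l' => by
        let c : HomSet R res (Art.dual2 k k) := ⟨HomTangent.point res (l.prod l'), AlgHom.ext fun _ => rfl⟩
        have e₀ : P (l + l') = HomSet.map Art.plus c := Subtype.ext (AlgHom.ext fun _ => rfl)
        have e₁ : P l = HomSet.map Art.pr₁ c := Subtype.ext (AlgHom.ext fun _ => rfl)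
        have e₂ : P l' = HomSet.map Art.pr₂ c := Subtype.ext (AlgHom.ext fun _ => rfl)
        rw [e₀, e₁, e₂, hplus]
      map_smul' := fun a l => by
        have e₀ : P (a • l) = HomSet.map (Art.scale a) (P l) := Subtype.ext (AlgHom.ext fun _ => rfl)
        rw [e₀, hscale, RingHom.id_apply] }
  rw [← (LinearEquiv.ofBijective L (hΦ.comp hP)).finrank_eq, Subspace.dual_finrank_eq]
  haveI : IsScalarTower k (ResidueField R) (CotangentSpace R) := IsScalarTower.of_algebraMap_smul fun c z => by
    rw [IsScalarTower.algebraMap_apply k R (ResidueField R), algebraMap_smul, algebraMap_smul]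
  have hb : Function.Bijective (algebraMap k (ResidueField R)) := by
    refine ⟨(algebraMap k (ResidueField R)).injective, fun z => ?_⟩
    obtain ⟨r, rfl⟩ := residue_surjective (R := R) z
    refine ⟨res r, ?_⟩
    rw [IsScalarTower.algebraMap_apply k R (ResidueField R)]
    exact (sub_eq_zero.1 (((map_sub (residue R) _ _).symm.trans
      ((residue_eq_zero_iff _).2 (HomTangent.sub_res_mem res r))))).symm
  have h1 : Module.finrank k (ResidueField R) = 1 := by
    rw [← (LinearEquiv.ofBijective (Algebra.linearMap k (ResidueField R)) hb).finrank_eq, Module.finrank_self]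
  rw [← Module.finrank_mul_finrank k (ResidueField R) (CotangentSpace R), h1, one_mul]

end Alg

variable {k : Type u} [Field k] {X : Scheme.{u}} (x : X ⟶ Spec (CommRingCat.of k)) (E : X.Modules)

theorem stalkHom_smulk (L : FGA.QuotSet x E (Over.mk (Art.specOver (Art.base k k)))) (c : k)
    (φ : Subobject.underlying.obj L.1 ⟶ cokernel L.1.arrow) (z : Art.XA x (Art.base k k)) (a) :
    letI : (PicF.XT x (Over.mk (Art.specOver (Art.base k k)))).Over (Spec (CommRingCat.of k)) :=
      ⟨PicF.XTproj x (Over.mk (Art.specOver (Art.base k k)))⟩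
    stalkHom (c • φ) z a = (show Art.base k k from c) • stalkHom φ z a := by
  letI : (PicF.XT x (Over.mk (Art.specOver (Art.base k k)))).Over (Spec (CommRingCat.of k)) :=
      ⟨PicF.XTproj x (Over.mk (Art.specOver (Art.base k k)))⟩
  have h : c • φ = act x (Art.base k k) (show Art.base k k from c) _ ≫ φ := rfl
  rw [h, stalkHom_comp, stalkHom_act']
  exact (linA x φ z).map_smul (show Art.base k k from c) a

/-- The tangent space of the Quot scheme at a rational point. -/
theorem finrank_cotangent_quot [LocallyOfFiniteType x] (hE : Coh.IsCoh E)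
    (Q : Over (Spec (CommRingCat.of k))) (Ku : FGA.QuotSet x E Q) (hQ : FGA.QuotRepresentedBy x E Q Ku)
    (y : onePt (k := k) ⟶ Q) (L : FGA.QuotSet x E (Over.mk (Art.specOver (Art.base k k))))
    (hL : FGA.quotPull x E (basePt ≫ y) Ku.1 = L.1) :
    Module.finrank (ResidueField (Q.left.presheaf.stalk (img y))) (CotangentSpace (Q.left.presheaf.stalk (img y))) =
      (letI : (PicF.XT x (Over.mk (Art.specOver (Art.base k k)))).Over (Spec (CommRingCat.of k)) :=
        ⟨PicF.XTproj x (Over.mk (Art.specOver (Art.base k k)))⟩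
      Module.finrank k (Subobject.underlying.obj L.1 ⟶ cokernel L.1.arrow)) := by
  letI : (PicF.XT x (Over.mk (Art.specOver (Art.base k k)))).Over (Spec (CommRingCat.of k)) :=
    ⟨PicF.XTproj x (Over.mk (Art.specOver (Art.base k k)))⟩
  haveI := hQ.1
  obtain ⟨alg, res, hk, hresR⟩ := exists_augmentation y
  have hw : ∀ {A : Art k k} (φ : HomSet (Q.left.presheaf.stalk (img y)) res A),
      (Spec.map (CommRingCat.ofHom φ.1.toRingHom) ≫ Q.left.fromSpecStalk (img y)) ≫ Q.hom = (specO A).hom := by
    intro A φ
    rw [Category.assoc, ← hk, ← Spec.map_comp, ← CommRingCat.ofHom_comp]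
    refine congrArg (fun f => Spec.map (CommRingCat.ofHom f)) (RingHom.ext fun c => ?_)
    exact φ.1.commutes c
  let u : ∀ {A : Art k k}, HomSet (Q.left.presheaf.stalk (img y)) res A → (Over.mk (Art.specOver A) ⟶ Q) :=
    fun {A} φ => Over.homMk (Spec.map (CommRingCat.ofHom φ.1.toRingHom) ≫ Q.left.fromSpecStalk (img y)) (hw φ)
  let fam : ∀ {A : Art k k}, HomSet (Q.left.presheaf.stalk (img y)) res A →
      FGA.QuotSet x E (Over.mk (Art.specOver A)) := fun {A} φ => ⟨_, quotPull_mem x E (u φ) Ku⟩
  have hnat : ∀ {A B : Art k k} (g : A ⟶ B) φ, FGA.quotPull x E (ov g) (fam φ).1 = (fam (HomSet.map g φ)).1 := by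
    intro A B g φ
    refine (quotPull_comp x E (u φ) (ov g) Ku.1).trans ?_
    refine congrArg (fun v => FGA.quotPull x E v Ku.1) (Over.OverMorphism.ext ?_)
    change Spec.map (CommRingCat.ofHom g.toAlgHom.toRingHom) ≫ Spec.map (CommRingCat.ofHom φ.1.toRingHom) ≫ _ =
      Spec.map (CommRingCat.ofHom (g.toAlgHom.toRingHom.comp φ.1.toRingHom)) ≫ _
    rw [CommRingCat.ofHom_comp, Spec.map_comp, Category.assoc]
  have hpt : ∀ {A : Art k k} φ, FGA.quotPull x E (ov (Art.toBase A)) (fam (A := A) φ).1 = L.1 := by
    intro A φ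
    refine (quotPull_comp x E (u φ) (ov (Art.toBase A)) Ku.1).trans ?_
    rw [ov_toBase, Category.assoc, ← hL]
    refine congrArg (fun v => FGA.quotPull x E (basePt ≫ v) Ku.1) (Over.OverMorphism.ext ?_)
    have hc : A.res.toRingHom.comp φ.1.toRingHom = resHom y :=
      RingHom.ext fun r => (DFunLike.congr_fun φ.2 r).trans (RingHom.congr_fun hresR r)
    exact (comp_specMap (Q.left.fromSpecStalk (img y)) _ _ _ hc).trans (specMap_resHom y)
  haveI hnA : ∀ A : Art k k, IsLocallyNoetherian (Over.mk (Art.specOver A)).left := fun A =>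
    inferInstanceAs (IsLocallyNoetherian (Spec (CommRingCat.of A)))
  choose Φ hΦ using fun φ => exists_isTan x E L (fam (A := Art.dual k k) φ) (hpt φ)
  refine finrank_cotangent_of_map Φ ⟨fun φ φ' h => ?_, fun ψ => ?_⟩ (fun c => ?_) fun a c => ?_
  · have hK : (fam φ).1 = (fam φ').1 :=
      le_antisymm (eq_of_isTan x E L (fam φ) (hpt φ) (fam φ') (hpt φ') (hΦ φ) (h ▸ hΦ φ'))
        (eq_of_isTan x E L (fam φ') (hpt φ') (fam φ) (hpt φ) (hΦ φ') (h ▸ hΦ φ))
    have hu : u φ = u φ' := (hQ.2 (Over.mk (Art.specOver (Art.dual k k))) (fam φ)).unique rfl hK.symm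
    exact Subtype.ext (AlgHom.coe_ringHom_injective
      (specMap_fromSpecStalk_injective y (congrArg CommaMorphism.left hu)))
  · obtain ⟨K, hK, hKψ⟩ := exists_of_hom x E L hE ψ
    obtain ⟨v, hv, -⟩ := hQ.2 (Over.mk (Art.specOver (Art.dual k k))) K
    haveI := hnA (Art.base k k)
    have hvb : ov (Art.toBase (Art.dual k k)) ≫ v = basePt ≫ y :=
      (hQ.2 (Over.mk (Art.specOver (Art.base k k))) L).unique
        (by rw [← quotPull_comp, hv]; exact hK) hL
    have hvpt : ptO (Art.dual k k) ≫ v = y := by
      rw [← Category.id_comp y, ← ptO_basePt, Category.assoc, ← hvb, ov_toBase, ← Category.assoc (ptO _),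
        ← Category.assoc (ptO (Art.base k k)), ptO_basePt, Category.id_comp]
    have hvy : v.left.base (closedPoint (Art.dual k k)) = img y := by
      refine Eq.trans ?_ (congrArg (fun u : onePt (k := k) ⟶ Q => u.left.base (closedPoint k)) hvpt)
      exact congrArg v.left.base (Subsingleton.elim (α := PrimeSpectrum (Art.dual k k)) _ _)
    obtain ⟨χ, hχ⟩ := exists_eq_specMap y v.left hvy
    have halg : ∀ c, χ (algebraMap k _ c) = algebraMap k (Art.dual k k) c := fun c => by
      have h := Over.w v
      rw [← hχ, Category.assoc, ← hk, ← Spec.map_comp, ← CommRingCat.ofHom_comp] at h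
      exact RingHom.congr_fun (congrArg CommRingCat.Hom.hom (Spec.map_injective h)) c
    have hr : (Art.dual k k).res.toRingHom.comp χ = resHom y := by
      refine specMap_fromSpecStalk_injective y ?_
      rw [specMap_resHom, CommRingCat.ofHom_comp, Spec.map_comp, Category.assoc, hχ]
      exact congrArg CommaMorphism.left hvpt
    refine ⟨⟨{ χ with commutes' := halg }, AlgHom.coe_ringHom_injective (hr.trans hresR.symm)⟩, ?_⟩
    refine IsTan.eq x E L (fam _) (hpt _) (hΦ _) ?_
    have hfam : FGA.quotPull x E v Ku.1 = (fam (A := Art.dual k k)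
        ⟨{ χ with commutes' := halg }, AlgHom.coe_ringHom_injective (hr.trans hresR.symm)⟩).1 :=
      congrArg (fun w => FGA.quotPull x E w Ku.1) (Over.OverMorphism.ext hχ.symm)
    rw [← hfam, hv]
    exact hKψ
  · refine IsTan.eq x E L (fam _) (hpt _) (hΦ _) ?_
    exact isTan_add x E L (hpt c) (hnat Art.plus c) (hnat Art.pr₁ c) (hnat Art.pr₂ c) (hΦ _) (hΦ _)
  · refine IsTan.eq x E L (fam _) (hpt _) (hΦ _) ?_
    exact isTan_scale x E L a (hnat (Art.scale a) c) (hΦ c) fun z b => stalkHom_smulk x E L a (Φ c) z b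

end Groth.Agent.QuotDef
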